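import Cfsg.Agent.H695.Spor.RowB
import Cfsg.Agent.H730.PairRow

/-! # S4938: the pairs of primes for `Fi22` (helper904) -/

set_option autoImplicit false

namespace Cfsg.Agent.H904.PR

open Cfsg Cfsg.Agent.H713 Cfsg.Agent.H713.Spor Cfsg.Agent.H730.Pair Subgroup

universe u v

/-- three elements cover all pairs -/
theorem pairRow_of_three {G : Type v} [Group G] {a b : ℕ} (hab : a ≠ b) {x y w : G} (hx : VZ G x) (hy : VZ G y) (hw : VZ G w)
    (h1 : ∀ p : ℕ, p.Prime → p ≠ a → p ∣ Nat.card G → p ∣ (centralizer ({x} : Set G)).index)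
    (h2 : ∀ p : ℕ, p.Prime → p ≠ b → p ∣ Nat.card G → p ∣ (centralizer ({y} : Set G)).index)
    (h3 : a ∣ (centralizer ({w} : Set G)).index) (h4 : b ∣ (centralizer ({w} : Set G)).index) : PairRow G := by
  intro p q hp hq hpq hpG hqG
  by_cases hpa : p = a
  · subst hpa
    by_cases hqb : q = b
    · subst hqb
      exact ⟨w, hw, h3, h4⟩
    · exact ⟨y, hy, h2 p hp hab hpG, h2 q hq hqb hqG⟩
  · by_cases hqa : q = a
    · subst hqa
      by_cases hpb : p = b
      · subst hpb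
        exact ⟨w, hw, h4, h3⟩
      · exact ⟨y, hy, h2 p hp hpb hpG, h2 q hq hab hqG⟩
    · exact ⟨x, hx, h1 p hp hpa hpG, h1 q hq hqa hqG⟩

/-- the index of a small centralizer -/
theorem dvd_index_of_card {G : Type v} [Group G] [Finite G] {x : G} {n p k : ℕ} (hp : p.Prime)
    (h : Nat.card (centralizer ({x} : Set G)) = n) (h1 : p ^ (k + 1) ∣ Nat.card G) (h2 : ¬ p ^ (k + 1) ∣ n) :
    p ∣ (centralizer ({x} : Set G)).index := dvd_index_of_not_dvd hp h1 (by rwa [h])

/-- if `x` commutes with no element of order `p`, then `p` divides the class size -/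
theorem dvd_index_of_comm {G : Type v} [Group G] [Finite G] {x : G} {p : ℕ} (hp : p.Prime) (hpG : p ∣ Nat.card G)
    (h : ∀ y : G, orderOf y = p → x * y ≠ y * x) : p ∣ (centralizer ({x} : Set G)).index := by
  refine dvd_index_of_not_dvd (k := 1) hp (by rwa [pow_one]) fun hd => ?_
  rw [pow_one] at hd
  have := Fact.mk hp
  obtain ⟨y, hy⟩ := exists_prime_orderOf_dvd_card' p hd
  refine h y (by rw [Subgroup.orderOf_coe, hy]) ?_
  exact (mem_centralizer_singleton_iff.1 y.2).symm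

end Cfsg.Agent.H904.PR

namespace Cfsg.Agent.H904.PR.Fi22

open Cfsg Cfsg.Agent.H713 Cfsg.Agent.H713.Spor Cfsg.Agent.H730.Pair Subgroup

theorem pairRow {K : Type*} [Group K] (h : Spor.IsoFi22 K) : PairRow K := by
  obtain ⟨e⟩ := h
  have hc := Cfsg.Agent.H713.Spor.Fi22.card_fi22 e
  have hfin : Finite K := Nat.finite_of_card_ne_zero (by rw [hc]; norm_num)
  have h7 : Fact (Nat.Prime 7) := ⟨by norm_num⟩
  have h11 : Fact (Nat.Prime 11) := ⟨by norm_num⟩
  have h13 : Fact (Nat.Prime 13) := ⟨by norm_num⟩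
  obtain ⟨x, hx⟩ := exists_prime_orderOf_dvd_card' (G := K) 13 (by rw [hc]; norm_num)
  obtain ⟨y, hy⟩ := exists_prime_orderOf_dvd_card' (G := K) 11 (by rw [hc]; norm_num)
  obtain ⟨w, hw⟩ := exists_prime_orderOf_dvd_card' (G := K) 7 (by rw [hc]; norm_num)
  have hw' : ∀ (u : K) (n : ℕ), Nat.card (centralizer ({u} : Set K)) = n → ¬ 7 ∣ n → w * u ≠ u * w := by
    intro u n hu hn hcomm
    apply hn
    rw [← hu]
    have h1 : w ∈ centralizer ({u} : Set K) := mem_centralizer_singleton_iff.2 hcomm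
    have h2 := orderOf_dvd_natCard (⟨w, h1⟩ : centralizer ({u} : Set K))
    rwa [← Subgroup.orderOf_coe, hw] at h2
  refine pairRow_of_three (a := 13) (b := 11) (by norm_num) (x := x) (y := y) (w := w)
    (HasDZ.vz (Cfsg.Agent.H713.Spor.Fi22.hasDZ_13 e) (by rw [hx]))
    (HasDZ.vz (Cfsg.Agent.H713.Spor.Fi22.hasDZ_11 e) (by rw [hy]))
    (HasDZ.vz (Cfsg.Agent.H695.Spor.RowB.hasDZ_fi22_7 e) (by rw [hw])) ?_ ?_ ?_ ?_
  · intro p hp hpa hpK
    refine dvd_index_of_card (k := 0) hp (Cfsg.Agent.H713.Spor.Fi22.cent_13 e hx) (by rwa [zero_add, pow_one]) ?_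
    rw [zero_add, pow_one]
    exact fun h => hpa ((Nat.prime_dvd_prime_iff_eq hp h13.out).1 h)
  · intro p hp hpb hpK
    by_cases hp2 : p = 2
    · subst hp2
      exact dvd_index_of_card (k := 1) hp (Cfsg.Agent.H713.Spor.Fi22.cent_11 e hy) (by rw [hc]; norm_num) (by norm_num)
    · refine dvd_index_of_card (k := 0) hp (Cfsg.Agent.H713.Spor.Fi22.cent_11 e hy) (by rwa [zero_add, pow_one]) ?_
      rw [zero_add, pow_one]
      intro h
      rcases (hp.dvd_mul (m := 2) (n := 11)).1 h with h1 | h1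
      · exact hp2 ((Nat.prime_dvd_prime_iff_eq hp Nat.prime_two).1 h1)
      · exact hpb ((Nat.prime_dvd_prime_iff_eq hp h11.out).1 h1)
  · exact dvd_index_of_comm h13.out (by rw [hc]; norm_num)
      fun u hu => hw' u 13 (Cfsg.Agent.H713.Spor.Fi22.cent_13 e hu) (by norm_num)
  · exact dvd_index_of_comm h11.out (by rw [hc]; norm_num)
      fun u hu => hw' u 22 (Cfsg.Agent.H713.Spor.Fi22.cent_11 e hu) (by norm_num)

end Cfsg.Agent.H904.PR.Fi22
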